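import Groth.Agent.VanishGroth7.Gen
import Groth.Agent.SiteBase.ClosedEmb
import Groth.Agent.SiteBase.ConstIrreducible
import Groth.Agent.SiteBase.Top
import Groth.Agent.SiteBase.LerayDegen
import Groth.Agent.S0459
import Groth.Agent.H23.TopDim
import Mathlib.Topology.QuasiSeparated
import Mathlib.Topology.NoetherianSpace

/-!
# Grothendieck vanishing on Noetherian spaces
-/

set_option autoImplicit false
set_option linter.style.haveILetI false
set_option backward.isDefEq.respectTransparency false
set_option backward.isDefEq.respectTransparency.types false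

universe u

open CategoryTheory CategoryTheory.Limits Opposite TopologicalSpace

namespace Groth.Agent.VanishGroth7

open Groth.Agent.SiteBase Groth.Agent.AcycHyper7

attribute [local instance] Abelian.hasFiniteBiproducts

lemma quasiSeparatedSpace_of_noetherian (X : Type*) [TopologicalSpace X] [NoetherianSpace X] :
    QuasiSeparatedSpace X :=
  ⟨fun _ _ _ _ _ _ => NoetherianSpace.isCompact _⟩

lemma map_comp_eq_zero {X : TopCat.{u}} {F G H : CohTop.Ab X} (f : F ⟶ G) (g : G ⟶ H) (w : f ≫ g = 0)
    {x : X} (z : (stalkF x).obj F) : (stalkF x).map g ((stalkF x).map f z) = 0 := by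
  rw [← ConcreteCategory.comp_apply, ← Functor.map_comp, w, Functor.map_zero]
  rfl

lemma isZero_of_stalks {X : TopCat.{u}} (F : CohTop.Ab X) (h : ∀ x : X, IsZero ((stalkF x).obj F)) :
    IsZero F := by
  haveI : Epi (0 : F ⟶ F) := epi_of_stalk _ fun x z => ⟨0, by
    haveI := AddCommGrpCat.subsingleton_of_isZero (h x)
    exact Subsingleton.elim _ _⟩
  exact IsZero.of_epi_eq_zero (0 : F ⟶ F) rfl

lemma isZero_stalk_of_le {X : TopCat.{u}} {V : Opens X} {x : X} (hx : x ∉ V) :
    IsZero ((stalkF x).obj (Z V)) := by
  haveI : Subsingleton ((stalkF x).obj (Z V)) := subsingleton_of_forall_eq 0 fun z => by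
    rcases stalk_cases V x z with h | ⟨h, -⟩
    · exact h
    · exact absurd h hx
  exact AddCommGrpCat.isZero_of_subsingleton _

lemma lt_of_lt_add_one {a b : WithBot ℕ∞} {d : ℕ} (hab : a < b) (hb : b < ((d + 1 : ℕ) : WithBot ℕ∞)) :
    a < (d : WithBot ℕ∞) := by
  cases a with
  | bot => exact WithBot.bot_lt_coe _
  | coe a =>
    cases b with
    | bot => exact absurd hab not_lt_bot
    | coe b =>
      have h1 : a < b := WithBot.coe_lt_coe.1 hab
      have h2 : b < ((d + 1 : ℕ) : ℕ∞) := WithBot.coe_lt_coe.1 hb
      refine WithBot.coe_lt_coe.2 (lt_of_lt_of_le h1 ?_)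
      exact ENat.lt_add_one_iff (ENat.natCast_ne_top d) |>.1 (by exact_mod_cast h2)

lemma dim_lt_zero_iff {α : Type u} [TopologicalSpace α] (h : topologicalKrullDim α < ((0 : ℕ) : WithBot ℕ∞)) :
    IsEmpty α := by
  refine ⟨fun x => ?_⟩
  haveI : Nonempty (IrreducibleCloseds α) :=
    ⟨⟨closure {x}, isIrreducible_singleton.closure, isClosed_closure⟩⟩
  exact absurd h (not_lt.2 (by exact_mod_cast Order.krullDim_nonneg))

/-- Grothendieck vanishing, for sheaves supported on a closed set. -/
theorem cdLE_of_support (d : ℕ) : ∀ (X : TopCat.{u}) [NoetherianSpace X] (C : Closeds X),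
    topologicalKrullDim ↥(C : Set X) < (d : WithBot ℕ∞) → ∀ F : CohTop.Ab X,
    (∀ x : X, x ∉ (C : Set X) → IsZero ((stalkF x).obj F)) →
      CdLE (J := J X) d (⊤ : Opens X) F := by
  induction d with
  | zero =>
    intro X _ C hC F hF
    haveI := dim_lt_zero_iff hC
    exact cdLE_of_isZero (J := J X) 0 _ (isZero_of_stalks F fun x => hF x fun hx => isEmptyElim (⟨x, hx⟩ : ↥(C : Set X)))
  | succ d IH =>
    intro X _ C
    induction C using WellFoundedLT.induction with
    | ind C IHC =>
      intro hC F hF
      rcases Set.eq_empty_or_nonempty (C : Set X) with h0 | hne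
      · exact cdLE_of_isZero (J := J X) _ _ (isZero_of_stalks F fun x => hF x (by rw [h0]; exact Set.notMem_empty x))
      by_cases hirr : IsIrreducible (C : Set X)
      · -- reduce to the irreducible space `C`
        let Y : TopCat.{u} := TopCat.of ↥(C : Set X)
        let i : Y ⟶ X := TopCat.ofHom ⟨Subtype.val, continuous_subtype_val⟩
        have hi : Topology.IsClosedEmbedding i := C.isClosed.isClosedEmbedding_subtypeVal
        obtain ⟨G, ⟨e⟩⟩ := (ClosedEmb.essImage_iff hi F).2 fun x hx => hF x fun hxC => hx ⟨⟨x, hxC⟩, rfl⟩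
        haveI : IrreducibleSpace Y := isIrreducible_iff_irreducibleSpace.1 hirr
        haveI : NoetherianSpace Y := NoetherianSpace.set (C : Set X)
        haveI : QuasiSeparatedSpace Y := quasiSeparatedSpace_of_noetherian Y
        have hfree : ∀ U : Opens Y, IsCompact (U : Set Y) → Van d (Z U) := by
          intro U _
          by_cases hU : (U : Set Y).Nonempty
          swap
          · exact van_of_isZero (isZero_of_stalks _ fun y => isZero_stalk_of_le fun hy => hU ⟨y, hy⟩)
          have hflasque : TopCat.Sheaf.IsFlasque (CohTop.const Y (ULift.{u} ℤ)) :=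
            SiteBase.isFlasque_const Y (ULift.{u} ℤ)
          have hT : ∀ (k : ℕ), Subsingleton (CohTop.HU (Z (⊤ : Opens Y)) (k + 1) ⊤) := fun k =>
            cdLE_of_iso (J := J Y) (SiteBase.freeSheafIsoConst (J Y) isTerminalTop).symm
              (fun k _ => @SiteBase.subsingleton_HU_of_isFlasque Y _ hflasque (⊤ : Opens Y) k) k
              (le_add_self : 1 ≤ k + 1)
          let Q := cokernel (inc (le_top : U ≤ (⊤ : Opens Y)))
          let C' : Closeds Y := ⟨(U : Set Y)ᶜ, U.2.isClosed_compl⟩
          have hdim : topologicalKrullDim ↥(C' : Set Y) < (d : WithBot ℕ∞) := by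
            refine lt_of_lt_add_one (H23.TopDim.dim_lt_of_ssubset (X := ↥(C : Set X))
              (fun h => by rw [h] at hC; exact not_top_lt hC) (Y := (C' : Set Y)) C'.isClosed
              fun h => ?_) hC
            obtain ⟨y, hy⟩ := hU
            exact (h.ge (Set.mem_univ y) : y ∈ (U : Set Y)ᶜ) hy
          have hQ0 : ∀ y : Y, y ∉ (C' : Set Y) → IsZero ((stalkF y).obj Q) := fun y hy => by
            have hyU : y ∈ U := not_not.1 hy
            haveI : Subsingleton ((stalkF y).obj Q) := subsingleton_of_forall_eq 0 fun z => by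
              obtain ⟨w, rfl⟩ := stalk_surjective (cokernel.π (inc (le_top : U ≤ (⊤ : Opens Y)))) y z
              rcases stalk_cases (⊤ : Opens Y) y w with h | ⟨htop, a, ha⟩
              · rw [h, map_zero]
              · rw [ha, map_zsmul, ← freeSheafMap_gen (le_top : U ≤ (⊤ : Opens Y)) hyU,
                  map_comp_eq_zero _ _ (cokernel.condition _)]
                exact smul_zero a
            exact AddCommGrpCat.isZero_of_subsingleton _
          have hQ := IH Y C' hdim Q hQ0
          let S := ShortComplex.mk (inc (le_top : U ≤ (⊤ : Opens Y))) (cokernel.π _) (cokernel.condition _)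
          have hS : S.ShortExact :=
            { exact := ShortComplex.exact_of_g_is_cokernel _ (cokernelIsCokernel _)
              mono_f := inferInstanceAs (Mono (inc (le_top : U ≤ (⊤ : Opens Y)))) }
          intro k hk
          rcases Nat.eq_zero_or_pos k with rfl | hk0
          · obtain rfl : d = 0 := by omega
            haveI := dim_lt_zero_iff hdim
            have hQz : IsZero Q := isZero_of_stalks Q fun y => hQ0 y fun hy => isEmptyElim (⟨y, hy⟩ : ↥(C' : Set Y))
            haveI : Epi (inc (le_top : U ≤ (⊤ : Opens Y))) :=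
              Preadditive.epi_of_cokernel_zero (hQz.eq_of_tgt _ _)
            haveI := isIso_of_mono_of_epi (inc (le_top : U ≤ (⊤ : Opens Y)))
            exact cdLE_of_iso (J := J Y) (asIso (inc (le_top : U ≤ (⊤ : Opens Y)))).symm
              (fun k (_ : 1 ≤ k + 1) => hT k) 0 (le_refl 1)
          · obtain ⟨k, rfl⟩ : ∃ k', k = k' + 1 := ⟨k - 1, by omega⟩
            exact SiteBase.subsingleton_HU_X₁_succ hS ⊤ k (hT (k + 1)) (hQ k (by omega))
        have hG : Van d G := van_all hfree G
        refine cdLE_of_iso (J := J X) e fun k hk => ?_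
        obtain ⟨eq⟩ := S0459.result i hi G (k + 1)
        haveI : Subsingleton (CohTop.H G (k + 1)) :=
          (SiteBase.huTerminalEquiv (J := J Y) isTerminalTop G (k + 1)).symm.toEquiv.subsingleton_congr.2 (hG k hk)
        exact (SiteBase.huTerminalEquiv (J := J X) isTerminalTop _ (k + 1)).toEquiv.subsingleton_congr.2
          eq.symm.toEquiv.subsingleton
      · obtain ⟨A, B, hA, hB, hsub, hnA, hnB⟩ : ∃ A B : Set X, IsClosed A ∧ IsClosed B ∧
            (C : Set X) ⊆ A ∪ B ∧ ¬ (C : Set X) ⊆ A ∧ ¬ (C : Set X) ⊆ B := by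
          by_contra! hno
          exact hirr ⟨hne, isPreirreducible_iff_isClosed_union_isClosed.2 fun A B hA hB hs =>
            or_iff_not_imp_left.2 fun hA' => hno A B hA hB hs hA'⟩
        let C₁ : Closeds X := ⟨(C : Set X) ∩ A, C.isClosed.inter hA⟩
        let C₂ : Closeds X := ⟨(C : Set X) ∩ B, C.isClosed.inter hB⟩
        have h1 : C₁ < C := lt_of_le_of_ne (Set.inter_subset_left : (C : Set X) ∩ A ⊆ C)
          fun h => hnA (Set.inter_eq_left.1 (congrArg (SetLike.coe) h))
        have h2 : C₂ < C := lt_of_le_of_ne (Set.inter_subset_left : (C : Set X) ∩ B ⊆ C)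
          fun h => hnB (Set.inter_eq_left.1 (congrArg (SetLike.coe) h))
        have hdim : ∀ C' : Closeds X, C' ≤ C → topologicalKrullDim ↥(C' : Set X) < ((d + 1 : ℕ) : WithBot ℕ∞) :=
          fun C' h => lt_of_le_of_lt (H23.TopDim.dim_le_dim_of_subset (show (C' : Set X) ⊆ C from h)) hC
        let Y : TopCat.{u} := TopCat.of ↥(C₁ : Set X)
        let i : Y ⟶ X := TopCat.ofHom ⟨Subtype.val, continuous_subtype_val⟩
        have hi : Topology.IsClosedEmbedding i := C₁.isClosed.isClosedEmbedding_subtypeVal
        let G := (CohTop.push i).obj ((CohTop.pull i).obj F)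
        let η : F ⟶ G := (TopCat.Sheaf.pullbackPushforwardAdjunction AddCommGrpCat.{u} i).unit.app F
        have hG : ∀ x : X, x ∉ (C₁ : Set X) → IsZero ((stalkF x).obj G) := fun x hx =>
          ClosedEmb.isZero_stalk_push hi _ x fun ⟨y, hy⟩ => hx (hy ▸ y.2)
        haveI : Epi η := epi_of_stalk _ fun x => by
          by_cases hx : x ∈ (C₁ : Set X)
          · haveI : IsIso ((stalkF x).map η) := ClosedEmb.isIso_stalk_unit hi.isInducing F ⟨x, hx⟩
            exact (ConcreteCategory.bijective_of_isIso ((stalkF x).map η)).2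
          · haveI := AddCommGrpCat.subsingleton_of_isZero (hG x hx)
            exact fun z => ⟨0, Subsingleton.elim _ _⟩
        let S := ShortComplex.mk (kernel.ι η) η (kernel.condition η)
        have hK : ∀ x : X, x ∉ (C₂ : Set X) → IsZero ((stalkF x).obj (kernel η)) := fun x hx => by
          haveI : Subsingleton ((stalkF x).obj (kernel η)) := subsingleton_of_forall_eq 0 fun z => by
            refine stalk_injective (kernel.ι η) x ?_
            rw [map_zero]
            by_cases hxC : x ∈ (C : Set X)
            · have hx1 : x ∈ (C₁ : Set X) := ⟨hxC, (hsub hxC).resolve_right fun hB' => hx ⟨hxC, hB'⟩⟩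
              haveI : IsIso ((stalkF x).map η) := ClosedEmb.isIso_stalk_unit hi.isInducing F ⟨x, hx1⟩
              refine (ConcreteCategory.bijective_of_isIso ((stalkF x).map η)).1 ?_
              rw [map_zero, ← ConcreteCategory.comp_apply, ← Functor.map_comp, kernel.condition, Functor.map_zero]
              rfl
            · haveI := AddCommGrpCat.subsingleton_of_isZero (hF x hxC)
              exact Subsingleton.elim _ _
          exact AddCommGrpCat.isZero_of_subsingleton _
        exact cdLE_X₂ (S := S) { exact := ShortComplex.exact_of_f_is_kernel _ (kernelIsKernel η) }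
          (IHC C₂ h2 (hdim C₂ h2.le) _ hK) (IHC C₁ h1 (hdim C₁ h1.le) G hG)

/-- Grothendieck vanishing. -/
theorem subsingleton_H_of_dim_le {X : TopCat.{u}} [NoetherianSpace X] (d : ℕ)
    (hd : topologicalKrullDim X ≤ d) (F : CohTop.Ab X) (p : ℕ) (hp : d < p) :
    Subsingleton (CohTop.H F p) := by
  obtain ⟨k, rfl⟩ : ∃ k, p = k + 1 := ⟨p - 1, by omega⟩
  have h := cdLE_of_support (d + 1) X ⊤
    (lt_of_le_of_lt ((topologicalKrullDim_subspace_le _ _).trans hd) (by exact_mod_cast Nat.lt_succ_self d))
    F (fun x hx => absurd trivial hx) k (by omega)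
  exact (SiteBase.huTerminalEquiv (J := J X) isTerminalTop F (k + 1)).symm.toEquiv.subsingleton_congr.2 h

end Groth.Agent.VanishGroth7
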