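import Groth.Agent.VanishGroth7.Free
import Groth.Agent.AcycHyper7.Basic
import Groth.Agent.S0468
import Mathlib.CategoryTheory.Abelian.GrothendieckCategory.Subobject
import Mathlib.CategoryTheory.Abelian.GrothendieckAxioms.Sheaf
import Mathlib.Algebra.Category.Grp.Abelian
import Mathlib.Topology.Spectral.Prespectral
import Mathlib.GroupTheory.Archimedean
import Mathlib.RingTheory.Int.Basic

/-!
# Vanishing of cohomology from vanishing on free sheaves of compact opens
-/

set_option autoImplicit false
set_option linter.style.haveILetI false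
set_option backward.isDefEq.respectTransparency false
set_option backward.isDefEq.respectTransparency.types false

universe u

open CategoryTheory CategoryTheory.Limits Opposite TopologicalSpace

namespace Groth.Agent.VanishGroth7

open Groth.Agent.SiteBase Groth.Agent.AcycHyper7

attribute [local instance] Abelian.hasFiniteBiproducts

variable {X : TopCat.{u}}

/-- No global cohomology above degree `d`. -/
def Van (d : ℕ) (F : CohTop.Ab X) : Prop := CdLE (J := J X) (d + 1) (⊤ : Opens X) F

/-- The free sheaf of an open. -/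
noncomputable abbrev Z (V : Opens X) : CohTop.Ab X := CohCx.freeSheaf (J X) V

/-- The map of free sheaves of an inclusion. -/
noncomputable abbrev inc {U V : Opens X} (h : V ≤ U) : Z V ⟶ Z U :=
  CohCx.freeSheafMap (J X) (homOfLE h)

lemma inc_comp {U V W : Opens X} (h : V ≤ U) (h' : W ≤ V) : inc h' ≫ inc h = inc (h'.trans h) :=
  (freeSheafMap_comp (J := J X) (homOfLE h) (homOfLE h')).symm

lemma exact_stalk {S : ShortComplex (CohTop.Ab X)} (hS : S.Exact) (x : X) :
    (S.map (stalkF x)).Exact :=
  (TopCat.Sheaf.exact_iff_stalkFunctor_map_exact S).1 hS x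

instance (x : X) : (stalkF x).PreservesMonomorphisms :=
  (stalkF x).preservesMonomorphisms_of_map_exact (fun _ hS => exact_stalk hS x)

instance (x : X) : (stalkF x).PreservesEpimorphisms :=
  (stalkF x).preservesEpimorphisms_of_map_exact (fun _ hS => exact_stalk hS x)

lemma stalk_injective {F G : CohTop.Ab X} (j : F ⟶ G) [Mono j] (x : X) :
    Function.Injective ((stalkF x).map j) :=
  (AddCommGrpCat.mono_iff_injective _).1 inferInstance

lemma stalk_surjective {F G : CohTop.Ab X} (j : F ⟶ G) [Epi j] (x : X) :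
    Function.Surjective ((stalkF x).map j) :=
  (AddCommGrpCat.epi_iff_surjective _).1 inferInstance

lemma epi_of_stalk {F G : CohTop.Ab X} (j : F ⟶ G)
    (h : ∀ x : X, Function.Surjective ((stalkF x).map j)) : Epi j := by
  refine (ShortComplex.exact_iff_epi (ShortComplex.mk j (0 : G ⟶ G) comp_zero) rfl).1 ?_
  refine (TopCat.Sheaf.exact_iff_stalkFunctor_map_exact _).2 fun x => ?_
  exact (ShortComplex.ab_exact_iff _).2 fun z _ => h x z

section Sum

variable {n : ℕ} (V : Fin n → Opens X) {F : CohTop.Ab X}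

/-- A finite sum of free sheaves. -/
noncomputable abbrev sum : CohTop.Ab X := ⨁ fun i => Z (V i)

lemma stalk_sum_range (φ : sum V ⟶ F) (x : X) (z : (stalkF x).obj (sum V)) :
    (stalkF x).map φ z ∈ AddSubgroup.closure
      {w | ∃ (i : Fin n) (h : x ∈ V i), (stalkF x).map (biproduct.ι (fun i => Z (V i)) i ≫ φ) (gen h) = w} := by
  have htot := congrArg (stalkF x).map (biproduct.total (f := fun i => Z (V i)))
  rw [Functor.map_sum, CategoryTheory.Functor.map_id] at htot
  have hz : z = ∑ i, (stalkF x).map (biproduct.π (fun i => Z (V i)) i ≫ biproduct.ι (fun i => Z (V i)) i) z := by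
    have h := congrArg (fun t => AddCommGrpCat.homAddEquiv t z) htot
    simp only [map_sum, AddMonoidHom.finsetSum_apply] at h
    exact h.symm
  rw [hz, map_sum]
  refine AddSubgroup.sum_mem _ fun i _ => ?_
  rw [Functor.map_comp, ConcreteCategory.comp_apply, ← ConcreteCategory.comp_apply _ ((stalkF x).map φ),
    ← Functor.map_comp]
  rcases stalk_cases (V i) x ((stalkF x).map (biproduct.π (fun i => Z (V i)) i) z) with h | ⟨hx, a, ha⟩
  · rw [h, map_zero]; exact zero_mem _
  · rw [ha, map_zsmul]
    refine AddSubgroup.zsmul_mem _ (AddSubgroup.subset_closure ?_) a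
    exact ⟨i, hx, rfl⟩

end Sum

/-- Division in the subgroup generated by finitely many integers. -/
lemma mem_closure_div {ι : Type*} (m : ℤ) (hm : m ≠ 0) (f : ι → ℤ) (a : ℤ)
    (h : a * m ∈ AddSubgroup.closure (Set.range f)) :
    a ∈ AddSubgroup.closure (Set.range fun i => f i / (Int.gcd (f i) m : ℤ)) := by
  obtain ⟨g, hg⟩ := Int.subgroup_cyclic (AddSubgroup.closure (Set.range f))
  obtain ⟨t, ht⟩ := Int.subgroup_cyclic (AddSubgroup.closure (Set.range fun i => f i / (Int.gcd (f i) m : ℤ)))
  rw [← AddSubgroup.zmultiples_eq_closure] at hg ht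
  rw [hg, Int.mem_zmultiples_iff] at h
  rw [ht, Int.mem_zmultiples_iff]
  have hgf : ∀ i, g ∣ f i := fun i =>
    Int.mem_zmultiples_iff.1 (hg ▸ AddSubgroup.subset_closure (Set.mem_range_self i))
  have htf : ∀ i, t ∣ f i / (Int.gcd (f i) m : ℤ) := fun i =>
    Int.mem_zmultiples_iff.1 (ht ▸ AddSubgroup.subset_closure (Set.mem_range_self i))
  have h1 : t * (Int.gcd g m : ℤ) ∣ g := by
    rw [← Int.mem_zmultiples_iff]
    refine (show AddSubgroup.closure (Set.range f) ≤ AddSubgroup.zmultiples (t * (Int.gcd g m : ℤ)) from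
      (AddSubgroup.closure_le _).2 ?_) (hg ▸ AddSubgroup.mem_zmultiples g)
    rintro _ ⟨i, rfl⟩
    rw [SetLike.mem_coe, Int.mem_zmultiples_iff]
    have h2 : (Int.gcd g m : ℤ) ∣ (Int.gcd (f i) m : ℤ) :=
      Int.dvd_coe_gcd ((Int.gcd_dvd_left _ _).trans (hgf i)) (Int.gcd_dvd_right _ _)
    have h3 := mul_dvd_mul (htf i) h2
    rwa [Int.ediv_mul_cancel (Int.gcd_dvd_left _ _)] at h3
  have h4 : g ∣ a * (Int.gcd g m : ℤ) := by
    rw [Int.gcd_eq_gcd_ab, mul_add, ← mul_assoc, ← mul_assoc]
    exact dvd_add ((Dvd.intro_left a rfl).trans (dvd_mul_right _ _)) (h.trans (dvd_mul_right _ _))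
  have hd : (Int.gcd g m : ℤ) ≠ 0 := by
    simp [Int.gcd_eq_zero_iff, hm]
  exact (mul_dvd_mul_iff_right hd).1 (h1.trans h4)

variable {d : ℕ}

lemma van_of_isZero {F : CohTop.Ab X} (h : IsZero F) : Van d F :=
  cdLE_of_isZero (J := J X) (d + 1) (⊤ : Opens X) h

lemma van_of_sum_zero {V : Fin 0 → Opens X} {F : CohTop.Ab X} (φ : sum V ⟶ F) [Epi φ] : Van d F := by
  refine van_of_isZero ?_
  rw [IsZero.iff_id_eq_zero, ← cancel_epi φ]
  exact biproduct.hom_ext' _ _ fun i => i.elim0

/-- The last generator modulo the others. -/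
noncomputable abbrev lastQuot {n : ℕ} (V : Fin (n + 1) → Opens X) {F : CohTop.Ab X} (φ : sum V ⟶ F) :
    Z (V (Fin.last n)) ⟶ cokernel (image.ι (biproduct.desc fun i : Fin n =>
      biproduct.ι (fun i => Z (V i)) i.castSucc ≫ φ)) :=
  biproduct.ι (fun i => Z (V i)) (Fin.last n) ≫ φ ≫ cokernel.π _

lemma comp_lastπ {n : ℕ} (V : Fin (n + 1) → Opens X) {F : CohTop.Ab X} (φ : sum V ⟶ F) (i : Fin n) :
    biproduct.ι (fun i => Z (V i)) i.castSucc ≫ φ ≫ cokernel.π (image.ι (biproduct.desc fun i : Fin n =>
      biproduct.ι (fun i => Z (V i)) i.castSucc ≫ φ)) = 0 := by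
  have e : biproduct.ι (fun i : Fin n => Z (V i.castSucc)) i ≫
      (biproduct.desc fun i : Fin n => biproduct.ι (fun i => Z (V i)) i.castSucc ≫ φ) =
        biproduct.ι (fun i => Z (V i)) i.castSucc ≫ φ := biproduct.ι_desc _ _
  have e' : biproduct.ι (fun i => Z (V i)) i.castSucc ≫ φ =
      (biproduct.ι (fun i : Fin n => Z (V i.castSucc)) i ≫ factorThruImage _) ≫
        image.ι (biproduct.desc fun i : Fin n => biproduct.ι (fun i => Z (V i)) i.castSucc ≫ φ) := by
    rw [Category.assoc, image.fac, e]
  rw [← Category.assoc, e', Category.assoc, cokernel.condition, comp_zero]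

lemma van_step {n : ℕ} (V : Fin (n + 1) → Opens X) {F : CohTop.Ab X} (φ : sum V ⟶ F) [Epi φ]
    (hV : Van d (Z (V (Fin.last n))))
    (h' : Van d (image (biproduct.desc fun i : Fin n => biproduct.ι (fun i => Z (V i)) i.castSucc ≫ φ)))
    (hk : Van d (kernel (lastQuot V φ))) : Van d F := by
  haveI : Epi (lastQuot V φ) := Preadditive.epi_of_cancel_zero _ fun {T} g hg => by
    rw [← cancel_epi (cokernel.π _), comp_zero, ← cancel_epi φ, comp_zero]
    refine biproduct.hom_ext' _ _ fun i => ?_
    rw [comp_zero]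
    induction i using Fin.lastCases with
    | last => simpa using hg
    | cast i =>
      have := congrArg (· ≫ g) (comp_lastπ V φ i)
      simpa using this
  have hQ : Van d (cokernel (image.ι (biproduct.desc fun i : Fin n =>
      biproduct.ι (fun i => Z (V i)) i.castSucc ≫ φ))) :=
    cdLE_X₃ (S := ShortComplex.mk (kernel.ι (lastQuot V φ)) (lastQuot V φ) (kernel.condition _))
      { exact := ShortComplex.exact_of_f_is_kernel _ (kernelIsKernel _) } hk hV
  exact cdLE_X₂ (S := ShortComplex.mk _ _ (cokernel.condition (image.ι (biproduct.desc fun i : Fin n =>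
      biproduct.ι (fun i => Z (V i)) i.castSucc ≫ φ))))
    { exact := ShortComplex.exact_of_g_is_cokernel _ (cokernelIsCokernel _) } h' hQ

section Main

variable [CompactSpace X] [PrespectralSpace X] [QuasiSeparatedSpace X]
  (hZ : ∀ V : Opens X, IsCompact (V : Set X) → Van d (Z V))

include hZ

/-- Subsheaves of a free sheaf generated by finitely many constant sections. -/
theorem van_constGen (n : ℕ) : ∀ (U : Opens X) (K : CohTop.Ab X) (j : K ⟶ Z U) [Mono j]
    (V : Fin n → Opens X) (hV : ∀ i, IsCompact (V i : Set X)) (hle : ∀ i, V i ≤ U) (m : Fin n → ℤ)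
    (φ : sum V ⟶ K) [Epi φ]
    (hφ : ∀ i, biproduct.ι (fun i => Z (V i)) i ≫ φ ≫ j = m i • inc (hle i)), Van d K := by
  induction n with
  | zero => intro U K j _ V _ _ _ φ _ _; exact van_of_sum_zero φ
  | succ n ih =>
    intro U K j _ V hV hle m φ _ hφ
    let φ' := biproduct.desc fun i : Fin n => biproduct.ι (fun i => Z (V i)) i.castSucc ≫ φ
    have hφ' : ∀ i : Fin n, biproduct.ι (fun i : Fin n => Z (V i.castSucc)) i ≫ factorThruImage φ' ≫
        image.ι φ' ≫ j = m i.castSucc • inc (hle i.castSucc) := fun i => by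
      rw [image.fac_assoc, biproduct.ι_desc_assoc, Category.assoc]
      exact hφ i.castSucc
    have h' : Van d (image φ') :=
      ih U (image φ') (image.ι φ' ≫ j) (fun i => V i.castSucc) (fun i => hV _) (fun i => hle _)
        (fun i => m i.castSucc) (factorThruImage φ') hφ'
    by_cases hm : m (Fin.last n) = 0
    · have h0 : biproduct.ι (fun i => Z (V i)) (Fin.last n) ≫ φ = 0 := by
        rw [← cancel_mono j, Category.assoc, hφ, hm, zero_smul, zero_comp]
      have hQ : IsZero (cokernel (image.ι φ')) := by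
        rw [IsZero.iff_id_eq_zero, ← cancel_epi (cokernel.π (image.ι φ')), ← cancel_epi φ]
        refine biproduct.hom_ext' _ _ fun i => ?_
        simp only [Category.comp_id, comp_zero]
        induction i using Fin.lastCases with
        | last => rw [reassoc_of% h0, zero_comp]
        | cast i => exact comp_lastπ V φ i
      exact cdLE_X₂ (S := ShortComplex.mk _ _ (cokernel.condition (image.ι φ')))
        { exact := ShortComplex.exact_of_g_is_cokernel _ (cokernelIsCokernel _) } h' (van_of_isZero hQ)
    refine van_step V φ (hZ _ (hV _)) h' ?_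
    set L := Fin.last n with hL
    let W : Fin n → Opens X := fun i => V i.castSucc ⊓ V L
    have hW : ∀ i, IsCompact (W i : Set X) := fun i =>
      QuasiSeparatedSpace.inter_isCompact _ _ (V i.castSucc).2 (hV _) (V L).2 (hV L)
    let c : Fin n → ℤ := fun i => m i.castSucc / (Int.gcd (m i.castSucc) (m L) : ℤ)
    let ψ : sum W ⟶ Z (V L) := biproduct.desc fun i => c i • inc (inf_le_right : W i ≤ V L)
    have hψ0 : ψ ≫ lastQuot V φ = 0 := biproduct.hom_ext' _ _ fun i => by
      rw [biproduct.ι_desc_assoc, comp_zero]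
      have key : c i • (inc (inf_le_right : W i ≤ V L) ≫ biproduct.ι (fun i => Z (V i)) L ≫ φ) =
          (m L / (Int.gcd (m i.castSucc) (m L) : ℤ)) •
            (inc (inf_le_left : W i ≤ V i.castSucc) ≫ biproduct.ι (fun i => Z (V i)) i.castSucc ≫ φ) := by
        rw [← cancel_mono j]
        simp only [Preadditive.zsmul_comp, Category.assoc, hφ, Preadditive.comp_zsmul, inc_comp, smul_smul]
        congr 1
        rw [← Int.mul_ediv_assoc' _ (Int.gcd_dvd_left _ _), ← Int.mul_ediv_assoc' _ (Int.gcd_dvd_right _ _),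
          mul_comm]
      show (c i • inc _) ≫ _ = 0
      have h2 := congrArg (· ≫ cokernel.π (image.ι φ')) key
      simp only [Preadditive.zsmul_comp, Category.assoc] at h2 ⊢
      rw [h2, comp_lastπ V φ i, comp_zero, zsmul_zero]
    haveI : Epi (kernel.lift _ ψ hψ0) := epi_of_stalk _ fun x z => by
      rcases stalk_cases (V L) x ((stalkF x).map (kernel.ι (lastQuot V φ)) z) with h | ⟨hx, a, ha⟩
      · exact ⟨0, stalk_injective (kernel.ι (lastQuot V φ)) x (by rw [map_zero, map_zero, h])⟩
      · have h0 : (stalkF x).map (lastQuot V φ) (a • gen hx) = 0 := by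
          rw [← ha, ← ConcreteCategory.comp_apply, ← Functor.map_comp, kernel.condition, Functor.map_zero]
          rfl
        rw [map_zsmul, lastQuot, ← Category.assoc, Functor.map_comp, ConcreteCategory.comp_apply, ← map_zsmul] at h0
        obtain ⟨w, hw⟩ := (ShortComplex.ab_exact_iff _).1
          (exact_stalk (ShortComplex.exact_of_g_is_cokernel
            (ShortComplex.mk _ _ (cokernel.condition (image.ι φ'))) (cokernelIsCokernel _)) x) _ h0
        obtain ⟨y, rfl⟩ := stalk_surjective (factorThruImage φ') x w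
        have hw' : (stalkF x).map (φ' ≫ j) y =
            a • (stalkF x).map (biproduct.ι (fun i => Z (V i)) L ≫ φ ≫ j) (gen hx) := by
          rw [← map_zsmul, ← Category.assoc, Functor.map_comp, Functor.map_comp, ConcreteCategory.comp_apply,
            ConcreteCategory.comp_apply, map_zsmul]
          refine congrArg _ (Eq.trans ((congrArg (fun t => ((stalkF x).map t) y) (image.fac φ').symm).trans ?_) hw)
          rw [Functor.map_comp]
          rfl
        have hsum := stalk_sum_range (fun i : Fin n => V i.castSucc) (φ' ≫ j) x y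
        rw [hw', hφ L] at hsum
        have hev : ∀ (W₁ : Opens X) (hW₁ : W₁ ≤ U) (hx₁ : x ∈ W₁) (r : ℤ),
            (stalkF x).map (r • inc hW₁) (gen hx₁) = r • gen (hW₁ hx₁) := fun W₁ hW₁ hx₁ r => by
          rw [Functor.map_zsmul]
          show (r • (stalkF x).map (inc hW₁)).hom (gen hx₁) = _
          rw [AddCommGrpCat.hom_zsmul, AddMonoidHom.smul_apply]
          exact congrArg (r • ·) (freeSheafMap_gen hW₁ hx₁)
        rw [hev, smul_smul] at hsum
        have hmem : a * m L ∈ AddSubgroup.closure (Set.range fun i : {i : Fin n // x ∈ V i.castSucc} => m i.1.castSucc) := by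
          have hinj : Function.Injective (zmultiplesHom _ (gen (hle L hx))) := fun r r' hr => by
            simp only [zmultiplesHom_apply] at hr
            exact sub_eq_zero.1 (eq_zero_of_zsmul_gen _ (by rw [sub_smul, hr, sub_self]))
          have hsub : AddSubgroup.closure {w | ∃ (i : Fin n) (h : x ∈ V i.castSucc),
              (stalkF x).map (biproduct.ι (fun i : Fin n => Z (V i.castSucc)) i ≫ φ' ≫ j) (gen h) = w} ≤
              (AddSubgroup.closure (Set.range fun i : {i : Fin n // x ∈ V i.castSucc} => m i.1.castSucc)).map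
                (zmultiplesHom _ (gen (hle L hx))) := by
            rw [AddSubgroup.closure_le]
            rintro _ ⟨i, h, rfl⟩
            refine ⟨m i.castSucc, AddSubgroup.subset_closure ⟨⟨i, h⟩, rfl⟩, ?_⟩
            rw [biproduct.ι_desc_assoc, Category.assoc, hφ, hev]
            rfl
          obtain ⟨r, hr, e⟩ := hsub hsum
          exact (hinj e) ▸ hr
        have hc := mem_closure_div (m L) hm _ a hmem
        have hc' : a • gen hx ∈ ((stalkF x).map ψ).hom.range := by
          refine (show (AddSubgroup.closure _).map (zmultiplesHom _ (gen hx)) ≤ _ from ?_) ⟨a, hc, rfl⟩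
          rw [AddMonoidHom.map_closure, AddSubgroup.closure_le]
          rintro _ ⟨_, ⟨⟨i, hi⟩, rfl⟩, rfl⟩
          have hxi : x ∈ W i := ⟨hi, hx⟩
          refine ⟨(stalkF x).map (biproduct.ι (fun i => Z (W i)) i) (gen hxi), ?_⟩
          show (stalkF x).map ψ ((stalkF x).map _ (gen hxi)) = _
          rw [← ConcreteCategory.comp_apply, ← Functor.map_comp, biproduct.ι_desc, Functor.map_zsmul]
          show (c i • (stalkF x).map (inc (inf_le_right : W i ≤ V L))).hom (gen hxi) = _
          rw [AddCommGrpCat.hom_zsmul, AddMonoidHom.smul_apply]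
          exact congrArg (c i • ·) (freeSheafMap_gen (inf_le_right : W i ≤ V L) hxi)
        obtain ⟨y', hy'⟩ := hc'
        refine ⟨y', stalk_injective (kernel.ι (lastQuot V φ)) x ?_⟩
        rw [← ConcreteCategory.comp_apply, ← Functor.map_comp, kernel.lift_ι, ha]
        exact hy'
    exact ih (V L) _ (kernel.ι (lastQuot V φ)) W hW (fun i => inf_le_right) c (kernel.lift _ ψ hψ0)
      fun i => by rw [kernel.lift_ι, biproduct.ι_desc]

omit hZ in
/-- Cohomology vanishes if it does for the subsheaves generated by finitely many of a family of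
generators. -/
theorem van_of_generators {σ : Type u} (W : σ → Opens X) {F : CohTop.Ab X} (g : ∀ i, Z (W i) ⟶ F)
    (hgen : ∀ (x : X) (z : (stalkF x).obj F), z = 0 ∨
      ∃ (i : σ) (h : x ∈ W i), (stalkF x).map (g i) (gen h) = z)
    (hfin : ∀ (n : ℕ) (e : Fin n → σ), Van d (image (biproduct.desc fun k => g (e k)))) : Van d F := by
  classical
  let φ : ∀ S : Finset σ, sum (fun k => W ((S.equivFin.symm k).1)) ⟶ F :=
    fun S => biproduct.desc fun k => g ((S.equivFin.symm k).1)
  have hmap : ∀ {S T : Finset σ}, S ≤ T → ∃ l : image (φ S) ⟶ image (φ T), l ≫ image.ι (φ T) = image.ι (φ S) := by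
    intro S T h
    let e : sum (fun k => W ((S.equivFin.symm k).1)) ⟶ image (φ T) := biproduct.desc fun k =>
      eqToHom (by simp) ≫ biproduct.ι (fun k => Z (W ((T.equivFin.symm k).1)))
        (T.equivFin ⟨(S.equivFin.symm k).1, h (S.equivFin.symm k).2⟩) ≫ factorThruImage (φ T)
    refine ⟨image.lift { I := image (φ T), m := image.ι (φ T), e := e, fac := ?_ }, image.lift_fac _⟩
    refine biproduct.hom_ext' _ _ fun k => ?_
    simp only [e, φ, biproduct.ι_desc_assoc, Category.assoc, image.fac, biproduct.ι_desc]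
    have hg : ∀ (a b : σ) (hab : a = b) (p : Z (W b) = Z (W a)), eqToHom p ≫ g a = g b := by
      rintro a b rfl p
      simp
    exact hg _ _ (by simp) _
  let D : Finset σ ⥤ MonoOver F :=
    { obj := fun S => MonoOver.mk (image.ι (φ S))
      map := fun {S T} h => MonoOver.homMk (hmap (leOfHom h)).choose (hmap (leOfHom h)).choose_spec
      map_id := fun _ => Subsingleton.elim _ _
      map_comp := fun _ _ => Subsingleton.elim _ _ }
  let Df := D ⋙ MonoOver.forget _ ⋙ Over.forget _
  let f : colimit Df ⟶ F := colimit.desc Df (Cocone.mk F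
    { app := fun S => (D.obj S).obj.hom
      naturality := fun S T h => by
        simp only [Df, Functor.comp_map, Functor.const_obj_map, Category.comp_id]
        exact MonoOver.w (D.map h) })
  have hf : ∀ S, colimit.ι Df S ≫ f = (D.obj S).obj.hom := fun S => colimit.ι_desc _ _
  haveI : Mono f := IsGrothendieckAbelian.mono_of_isColimit_monoOver D (colimit.isColimit Df) f hf
  haveI : Epi f := epi_of_stalk _ fun x z => by
    rcases hgen x z with rfl | ⟨i, h, hz⟩
    · exact ⟨0, map_zero _⟩
    have hk : ∃ k, (({i} : Finset σ).equivFin.symm k).1 = i :=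
      ⟨({i} : Finset σ).equivFin ⟨i, Finset.mem_singleton_self i⟩, by simp⟩
    obtain ⟨k, hk⟩ := hk
    refine ⟨(stalkF x).map (biproduct.ι (fun k => Z (W ((({i} : Finset σ).equivFin.symm k).1))) k ≫
      factorThruImage (φ {i}) ≫ colimit.ι Df {i}) (gen (by rw [hk]; exact h)), ?_⟩
    rw [← ConcreteCategory.comp_apply, ← Functor.map_comp, Category.assoc, Category.assoc, hf]
    show (stalkF x).map (biproduct.ι _ k ≫ factorThruImage (φ {i}) ≫ image.ι (φ {i})) _ = _
    rw [image.fac, biproduct.ι_desc]
    have hg : ∀ (a : σ) (_ : a = i) (p : x ∈ W a), (stalkF x).map (g a) (gen p) = z := by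
      rintro a rfl p
      exact hz
    exact hg _ hk _
  haveI := isIso_of_mono_of_epi f
  intro k hk
  let G : CohTop.Ab X ⥤ AddCommGrpCat.{u} :=
    (Sheaf.cohomologyPresheafFunctor (J X) (k + 1)).flip.obj (op (⊤ : Opens X))
  haveI : PreservesColimitsOfShape (Finset σ) G :=
    S0468.result (⊤ : Opens X) (by simpa using isCompact_univ) (Finset σ) (k + 1)
  have hz : IsZero (G.obj (colimit Df)) := by
    rw [IsZero.iff_id_eq_zero]
    refine (isColimitOfPreserves G (colimit.isColimit Df)).hom_ext fun S => IsZero.eq_of_src ?_ _ _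
    haveI : Subsingleton ↑((Df ⋙ G).obj S) := hfin _ (fun k => ((S.equivFin.symm k).1)) k hk
    exact AddCommGrpCat.isZero_of_subsingleton _
  exact AddCommGrpCat.subsingleton_of_isZero (hz.of_iso (G.mapIso (asIso f)).symm)

/-- Subsheaves of the free sheaf of a compact open. -/
theorem van_sub (U : Opens X) (K : CohTop.Ab X) (j : K ⟶ Z U) [Mono j] : Van d K := by
  let σ := {p : Opens X × ℤ // IsCompact (p.1 : Set X) ∧ ∃ h : p.1 ≤ U, ∃ g : Z p.1 ⟶ K, g ≫ j = p.2 • inc h}
  refine van_of_generators (σ := σ) (fun i => i.1.1) (fun i => i.2.2.choose_spec.choose) (fun x z => ?_)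
    fun n e => ?_
  · rcases stalk_cases U x ((stalkF x).map j z) with h | ⟨hx, a, ha⟩
    · exact Or.inl (stalk_injective j x (by rw [h, map_zero]))
    · obtain ⟨V, hxV, s, rfl⟩ := exists_germ K x z
      refine Or.inr ?_
      rw [stalkF_map_germ, gen, ← map_zsmul] at ha
      obtain ⟨W₀, hxW₀, i₁, i₂, hW₀⟩ :=
        TopCat.Presheaf.germ_eq (C := AddCommGrpCat.{u}) (X := X) (Z U).obj x hxV hx _ _ ha
      obtain ⟨W, ⟨hWo, hWc⟩, hxW, hWW₀⟩ :=
        PrespectralSpace.isTopologicalBasis.exists_subset_of_mem_open (show x ∈ (W₀ : Set X) from hxW₀) W₀.2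
      let W' : Opens X := ⟨W, hWo⟩
      have hV : W' ≤ V := (show W' ≤ W₀ from hWW₀).trans (leOfHom i₁)
      have hU : W' ≤ U := (show W' ≤ W₀ from hWW₀).trans (leOfHom i₂)
      have heq : (secEquiv (J X) W' K).symm (K.obj.map (homOfLE hV).op s) ≫ j = a • inc hU := by
        apply (secEquiv (J X) W' (Z U)).injective
        rw [secEquiv_comp, AddEquiv.apply_symm_apply, map_zsmul,
          show inc hU = CohCx.freeSheafMap (J X) (homOfLE hU) ≫ 𝟙 _ from (Category.comp_id _).symm,
          secEquiv_freeSheafMap]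
        have hn : j.hom.app (op W') (K.obj.map (homOfLE hV).op s) =
            (Z U).obj.map (homOfLE hV).op (j.hom.app (op V) s) :=
          congrArg (fun t => t.hom s) (j.hom.naturality (homOfLE hV).op)
        refine hn.trans (Eq.trans ?_ (map_zsmul _ _ _))
        have h3 := congrArg ((Z U).obj.map (homOfLE (show W' ≤ W₀ from hWW₀)).op) hW₀
        have r : ∀ {A B : Opens X} (f : A ⟶ B) (g : W' ⟶ A) (t : (Z U).obj.obj (op B)),
            (Z U).obj.map g.op ((Z U).obj.map f.op t) = (Z U).obj.map (g ≫ f).op t := fun f g t => by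
          rw [← ConcreteCategory.comp_apply, ← Functor.map_comp]
          rfl
        rw [r, r] at h3
        exact h3
      let i : σ := ⟨(W', a), hWc, hU, _, heq⟩
      refine ⟨i, hxW, ?_⟩
      have hi : i.2.2.choose_spec.choose = (secEquiv (J X) W' K).symm (K.obj.map (homOfLE hV).op s) := by
        rw [← cancel_mono j, i.2.2.choose_spec.choose_spec, heq]
      rw [hi, map_gen, AddEquiv.apply_symm_apply, germ_res]
  · refine van_constGen hZ n U _ (image.ι _ ≫ j) (fun k => (e k).1.1) (fun k => (e k).2.1)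
      (fun k => (e k).2.2.choose) (fun k => (e k).1.2) (factorThruImage _) fun k => ?_
    rw [image.fac_assoc, biproduct.ι_desc_assoc]
    exact (e k).2.2.choose_spec.choose_spec

/-- Finitely generated sheaves. -/
theorem van_finGen (n : ℕ) : ∀ (V : Fin n → Opens X) (hV : ∀ i, IsCompact (V i : Set X))
    (F : CohTop.Ab X) (φ : sum V ⟶ F) [Epi φ], Van d F := by
  induction n with
  | zero => intro V _ F φ _; exact van_of_sum_zero φ
  | succ n ih =>
    intro V hV F φ _
    exact van_step V φ (hZ _ (hV _))
      (ih (fun i => V i.castSucc) (fun i => hV _) _ (factorThruImage _))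
      (van_sub hZ (V (Fin.last n)) _ (kernel.ι (lastQuot V φ)))

/-- Vanishing for the free sheaves on compact opens gives vanishing for all sheaves. -/
theorem van_all (F : CohTop.Ab X) : Van d F := by
  let σ := Σ V : {V : Opens X // IsCompact (V : Set X)}, F.obj.obj (op V.1)
  refine van_of_generators (σ := σ) (fun i => i.1.1) (fun i => (secEquiv (J X) i.1.1 F).symm i.2)
    (fun x z => ?_) fun n e =>
      van_finGen hZ n (fun k => (e k).1.1) (fun k => (e k).1.2) _ (factorThruImage _)
  obtain ⟨V, hxV, s, rfl⟩ := exists_germ F x z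
  obtain ⟨W, ⟨hWo, hWc⟩, hxW, hWV⟩ :=
    PrespectralSpace.isTopologicalBasis.exists_subset_of_mem_open (show x ∈ (V : Set X) from hxV) V.2
  refine Or.inr ⟨⟨⟨⟨W, hWo⟩, hWc⟩, F.obj.map (homOfLE (show (⟨W, hWo⟩ : Opens X) ≤ V from hWV)).op s⟩, hxW, ?_⟩
  rw [map_gen, AddEquiv.apply_symm_apply, germ_res]

end Main

end Groth.Agent.VanishGroth7
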