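import Groth.Agent.SiteBase.Sections
import Groth.Prelude.Def_CohTop
import Mathlib.CategoryTheory.Sites.LocallySurjective
import Mathlib.GroupTheory.Subgroup.Center
import Mathlib.Topology.Sheaves.Abelian

/-!
# Stalks of free abelian sheaves on opens of a space
-/

set_option autoImplicit false
set_option linter.style.haveILetI false
set_option backward.isDefEq.respectTransparency false
set_option backward.isDefEq.respectTransparency.types false

universe u

open CategoryTheory CategoryTheory.Limits Opposite TopologicalSpace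

namespace Groth.Agent.VanishGroth7

open Groth.Agent.SiteBase

variable {X : TopCat.{u}}

/-- The site of opens. -/
abbrev J (X : TopCat.{u}) : GrothendieckTopology (Opens X) := Opens.grothendieckTopology X

/-- The stalk functor. -/
noncomputable abbrev stalkF (x : X) : CohTop.Ab X ⥤ AddCommGrpCat.{u} :=
  TopCat.Sheaf.forget AddCommGrpCat.{u} X ⋙ TopCat.Presheaf.stalkFunctor AddCommGrpCat.{u} x

instance (x : X) : (stalkF x).Additive where
  map_add {F G} {φ ψ} := (TopCat.Presheaf.stalkFunctor AddCommGrpCat.{u} x).map_add (f := φ.hom) (g := ψ.hom)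

/-- The free abelian presheaf on an open. -/
noncomputable abbrev freePsh (V : Opens X) : (Opens X)ᵒᵖ ⥤ AddCommGrpCat.{u} :=
  yoneda.obj V ⋙ AddCommGrpCat.free.{u}

/-- The germ of a section. -/
noncomputable def germ (F : CohTop.Ab X) {U : Opens X} {x : X} (hx : x ∈ U) :
    F.obj.obj (op U) →+ (stalkF x).obj F :=
  (TopCat.Presheaf.germ (C := AddCommGrpCat.{u}) (X := X) F.obj U x hx).hom

lemma stalkF_map_germ {F G : CohTop.Ab X} (g : F ⟶ G) {U : Opens X} {x : X} (hx : x ∈ U)
    (s : F.obj.obj (op U)) : (stalkF x).map g (germ F hx s) = germ G hx (g.hom.app (op U) s) :=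
  TopCat.Presheaf.stalkFunctor_map_germ_apply (C := AddCommGrpCat.{u}) (X := X) U x hx g.hom s

lemma germ_res (F : CohTop.Ab X) {U V : Opens X} (h : V ≤ U) {x : X} (hx : x ∈ V)
    (s : F.obj.obj (op U)) : germ F hx (F.obj.map (homOfLE h).op s) = germ F (h hx) s :=
  TopCat.Presheaf.germ_res_apply (C := AddCommGrpCat.{u}) (X := X) F.obj (homOfLE h) x hx s

lemma exists_germ (F : CohTop.Ab X) (x : X) (z : (stalkF x).obj F) :
    ∃ (U : Opens X) (hx : x ∈ U) (s : F.obj.obj (op U)), germ F hx s = z :=
  TopCat.Presheaf.exists_germ_eq (C := AddCommGrpCat.{u}) (X := X) F.obj z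

/-- The generator of the stalk of the free sheaf. -/
noncomputable def gen {V : Opens X} {x : X} (hx : x ∈ V) : (stalkF x).obj (CohCx.freeSheaf (J X) V) :=
  germ _ hx (univSection (J X) V)

lemma map_gen {V : Opens X} {x : X} (hx : x ∈ V) {F : CohTop.Ab X}
    (φ : CohCx.freeSheaf (J X) V ⟶ F) :
    (stalkF x).map φ (gen hx) = germ F hx (secEquiv (J X) V F φ) :=
  stalkF_map_germ φ hx _

lemma freeSheafMap_gen {U V : Opens X} (h : V ≤ U) {x : X} (hx : x ∈ V) :
    (stalkF x).map (CohCx.freeSheafMap (J X) (homOfLE h)) (gen hx) = gen (h hx) := by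
  rw [gen, stalkF_map_germ]
  exact (congrArg (germ _ hx) (freeSheafMap_univSection (J := J X) (homOfLE h))).trans (germ_res _ h hx _)

lemma toSheafify_of {V W : Opens X} (h : W ≤ V) :
    ((toSheafify (J X) (freePsh V)).app (op W)).hom (FreeAbelianGroup.of (homOfLE h)) =
      ((CohCx.freeSheaf (J X) V).obj.map (homOfLE h).op).hom (univSection (J X) V) := by
  have h2 := congrArg (fun t => (t.hom) (FreeAbelianGroup.of (𝟙 V)))
    ((toSheafify (J X) (freePsh V)).naturality (homOfLE h).op)
  refine Eq.trans ?_ h2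
  refine congrArg ((toSheafify (J X) (freePsh V)).app (op W)).hom ?_
  exact ((FreeAbelianGroup.map_of_apply _).trans (congrArg FreeAbelianGroup.of (Category.comp_id (homOfLE h)))).symm

/-- Outside the open the stalk vanishes; inside it is generated by the germ of the generator. -/
theorem stalk_cases (V : Opens X) (x : X) (z : (stalkF x).obj (CohCx.freeSheaf (J X) V)) :
    z = 0 ∨ ∃ (hx : x ∈ V) (a : ℤ), z = a • gen hx := by
  obtain ⟨U, hxU, s, rfl⟩ := exists_germ _ x z
  obtain ⟨W, f, ⟨t, ht⟩, hxW⟩ := Presheaf.imageSieve_mem (J X) (toSheafify (J X) (freePsh V)) s x hxU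
  rw [← germ_res _ f.le hxW]
  change (toSheafify (J X) (freePsh V)).app (op W) t = (CohCx.freeSheaf (J X) V).obj.map (homOfLE f.le).op s at ht
  rw [← ht]
  clear ht
  by_cases hWV : W ≤ V
  · right
    refine ⟨hWV hxW, ?_⟩
    induction t using FreeAbelianGroup.induction_on with
    | zero => exact ⟨0, by rw [map_zero, map_zero, zero_smul]⟩
    | of i =>
      refine ⟨1, ?_⟩
      rw [one_smul, show i = homOfLE hWV from Subsingleton.elim (α := W ⟶ V) _ _]
      erw [toSheafify_of hWV, germ_res _ hWV hxW]
      rfl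
    | neg i hi =>
      obtain ⟨a, ha⟩ := hi
      exact ⟨-a, by rw [map_neg, map_neg, neg_smul, ha]⟩
    | add p q hp hq =>
      obtain ⟨a, ha⟩ := hp
      obtain ⟨b, hb⟩ := hq
      exact ⟨a + b, by rw [map_add, map_add, add_smul, ha, hb]⟩
  · left
    induction t using FreeAbelianGroup.induction_on with
    | zero => rw [map_zero, map_zero]
    | of i => exact absurd (leOfHom i) hWV
    | neg i hi => rw [map_neg, map_neg, hi, neg_zero]
    | add p q hp hq => rw [map_add, map_add, hp, hq, add_zero]

/-- The generator has infinite order. -/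
theorem eq_zero_of_zsmul_gen {V : Opens X} {x : X} (hx : x ∈ V) {a : ℤ} (h : a • gen hx = 0) :
    a = 0 := by
  have h' : germ (CohCx.freeSheaf (J X) V) hx (a • univSection (J X) V) = germ _ hx 0 := by
    rw [map_zsmul, map_zero]; exact h
  obtain ⟨W, hxW, i₁, i₂, hW⟩ :=
    TopCat.Presheaf.germ_eq (C := AddCommGrpCat.{u}) (X := X) (CohCx.freeSheaf (J X) V).obj x hx hx _ _ h'
  have hle : W ≤ V := leOfHom i₁
  change (CohCx.freeSheaf (J X) V).obj.map i₁.op (a • univSection (J X) V) = _ at hW
  rw [map_zsmul, map_zero, show i₁ = homOfLE hle from rfl, ← toSheafify_of hle] at hW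
  have hW' : (toSheafify (J X) (freePsh V)).app (op W) (a • FreeAbelianGroup.of (homOfLE hle)) =
      (toSheafify (J X) (freePsh V)).app (op W) 0 := by
    rw [map_zero, map_zsmul]
    exact hW
  obtain ⟨W', f, hf, hxW'⟩ :=
    Presheaf.equalizerSieve_mem (J X) (toSheafify (J X) (freePsh V)) (X := op W) _ _ hW' x hxW
  change (freePsh V).map f.op (a • FreeAbelianGroup.of (homOfLE hle)) = (freePsh V).map f.op 0 at hf
  rw [map_zsmul, map_zero] at hf
  have := congrArg (FreeAbelianGroup.lift fun _ : W' ⟶ V => (1 : ℤ)) hf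
  rw [map_zsmul, map_zero] at this
  erw [FreeAbelianGroup.map_of_apply, FreeAbelianGroup.lift_apply_of] at this
  simpa using this

end Groth.Agent.VanishGroth7
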